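import Mathlib.Tactic
import Cfsg.Prelude.Def_Blocks
import Cfsg.Agent.Char.Galois
import Cfsg.Agent.Char.Integral

/-!
# The automorphism fixing odd roots of unity and inverting 2-power roots; degree counts
-/

set_option autoImplicit false
open Cfsg CF.Char

namespace CF.Fo
variable {G : Type*} [Group G]

theorem A_pow_of_modEq {M : Type*} [Monoid M] {z : M} {n k l : ℕ} (hz : z ^ n = 1)
    (h : k ≡ l [MOD n]) : z ^ k = z ^ l := by
  rw [pow_eq_pow_mod k hz, pow_eq_pow_mod l hz, h]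

theorem A_sigma [Finite G] (h4 : 4 ∣ Nat.card G) :
    ∃ (s : ℂ →+* ℂ) (k a : ℕ), s Complex.I = -Complex.I ∧
      (∀ (m : ℕ) (z : ℂ), Odd m → m ∣ Nat.card G → z ^ m = 1 → s z = z) ∧
      (∀ χ : G → ℂ, IsCharacter G χ → ∀ g, s (χ g) = χ (g ^ k)) ∧
      (∀ g : G, (g ^ k) ^ k = g) ∧ ∀ g : G, (g ^ k) ^ 2 ^ a = g ^ 2 ^ a := by
  have hn : Nat.card G ≠ 0 := (Nat.card_pos (α := G)).ne'
  obtain ⟨a, m, hm, hnm⟩ := Nat.exists_eq_two_pow_mul_odd hn
  have co : (2 ^ a).Coprime m := Nat.Coprime.pow_left _ (Nat.coprime_two_left.mpr hm)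
  have h4a : 4 ∣ 2 ^ a := by
    refine Nat.Coprime.dvd_of_dvd_mul_right (k := 4) (n := m) ?_ (hnm ▸ h4)
    exact Nat.Coprime.pow_left 2 (Nat.coprime_two_left.mpr hm)
  obtain ⟨k, hk1, hk2⟩ := Nat.chineseRemainder co (2 ^ a - 1) 1
  obtain ⟨b, hb⟩ : ∃ b, 2 ^ a = b + 1 := ⟨2 ^ a - 1, by have := Nat.two_pow_pos a; omega⟩
  have hk1' : k + 1 ≡ 0 [MOD 2 ^ a] := by
    have := hk1.add_right 1
    rw [show 2 ^ a - 1 + 1 = 2 ^ a by omega] at this
    exact this.trans (Nat.modEq_zero_iff_dvd.mpr dvd_rfl)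
  have hkk : k * k ≡ 1 [MOD Nat.card G] := by
    rw [hnm, ← Nat.modEq_and_modEq_iff_modEq_mul co]
    refine ⟨?_, by simpa using hk2.mul hk2⟩
    have h1 := hk1'.mul_left k
    have h2 : k * k + k ≡ 1 + k [MOD 2 ^ a] := by
      rw [show k * k + k = k * (k + 1) by ring, add_comm 1 k]
      exact h1.trans (by rw [mul_zero]; exact hk1'.symm)
    exact Nat.ModEq.add_right_cancel' k h2
  have hco : k.Coprime (Nat.card G) := Nat.coprime_of_mul_modEq_one k hkk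
  obtain ⟨σ, hσ⟩ := exists_aut_pow hn hco
  refine ⟨σ.toRingHom, k, a, ?_, fun m' z hm' hd hz => ?_, fun χ h g => ?_, fun g => ?_,
    fun g => ?_⟩
  · obtain ⟨c, hc⟩ := h4
    have h1 : Complex.I ^ Nat.card G = 1 := by rw [hc, pow_mul, Complex.I_pow_four, one_pow]
    have h2 : k ≡ 3 [MOD 4] := by
      have := hk1'.of_dvd h4a
      unfold Nat.ModEq at *
      omega
    change σ _ = _
    rw [hσ _ h1, A_pow_of_modEq Complex.I_pow_four h2, Complex.I_pow_three]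
  · have hd' : m' ∣ m := by
      exact (Nat.Coprime.pow_right a (Nat.coprime_two_right.mpr hm')).dvd_of_dvd_mul_left
        (hnm ▸ hd)
    obtain ⟨c, hc⟩ := hd
    change σ _ = _
    rw [hσ _ (by rw [hc, pow_mul, hz, one_pow]), A_pow_of_modEq hz (hk2.of_dvd hd'), pow_one]
  · exact char_map_eq_pow h σ.toRingHom hσ pow_card_eq_one'
  · rw [← pow_mul, A_pow_of_modEq pow_card_eq_one' hkk, pow_one]
  · rw [← pow_mul]
    refine A_pow_of_modEq pow_card_eq_one' ?_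
    rw [hnm, mul_comm k]
    simpa using hk2.mul_left' (2 ^ a)

theorem A_deg {χ : G → ℂ} {n : ℕ} (h : χ 1 = n) : charDegree χ = n := by
  simp [charDegree, h]

theorem A_deg_cast (χ : IrrCharacter G) : (charDegree (χ : G → ℂ) : ℂ) = (χ : G → ℂ) 1 := by
  obtain ⟨n, -, h⟩ := irr_one_eq_nat χ.2
  rw [A_deg h, h]

theorem A_deg_dvd [Finite G] (χ : IrrCharacter G) : charDegree (χ : G → ℂ) ∣ Nat.card G :=
  irr_one_dvd_card χ.2 (A_deg_cast χ).symm

theorem A_sum_sq [Finite G] :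
    ∑ χ : IrrCharacter G, charDegree (χ : G → ℂ) ^ 2 = Nat.card G := by
  have h := sum_irr_one_sq (G := G)
  simp only [← A_deg_cast] at h
  exact_mod_cast h

theorem A_card_odd [Finite G] :
    Nat.card {χ : IrrCharacter G // ¬ 2 ∣ charDegree (χ : G → ℂ)} =
      ∑ χ : IrrCharacter G, if ¬ 2 ∣ charDegree (χ : G → ℂ) then 1 else 0 := by
  classical
  rw [Nat.card_eq_fintype_card, Fintype.card_subtype, Finset.card_filter]

theorem A_sq_mod (d : ℕ) :
    d ^ 2 ≡ (if ¬ 2 ∣ d then 1 else 0) + 4 * (if d % 4 = 2 then 1 else 0) [MOD 8] := by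
  have h : d ^ 2 % 8 = (d % 8) ^ 2 % 8 := Nat.pow_mod _ _ _
  have h8 : d % 8 < 8 := Nat.mod_lt _ (by norm_num)
  unfold Nat.ModEq
  rw [h]
  obtain h | h | h | h | h | h | h | h : d % 8 = 0 ∨ d % 8 = 1 ∨ d % 8 = 2 ∨ d % 8 = 3 ∨
    d % 8 = 4 ∨ d % 8 = 5 ∨ d % 8 = 6 ∨ d % 8 = 7 := by omega
  all_goals
    rw [h]
    split_ifs <;> omega

theorem A_card_mod [Finite G] :
    Nat.card G ≡ Nat.card {χ : IrrCharacter G // ¬ 2 ∣ charDegree (χ : G → ℂ)} +
      4 * ∑ χ : IrrCharacter G, (if charDegree (χ : G → ℂ) % 4 = 2 then 1 else 0) [MOD 8] := by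
  rw [← A_sum_sq, A_card_odd, Finset.mul_sum, ← Finset.sum_add_distrib]
  exact Nat.ModEq.sum fun χ _ => A_sq_mod _

theorem C_four [Finite G]
    (h4 : Nat.card {χ : IrrCharacter G // ¬ 2 ∣ charDegree (χ : G → ℂ)} = 4) :
    4 ∣ Nat.card G := by
  have h := A_card_mod (G := G)
  rw [h4] at h
  unfold Nat.ModEq at h
  omega

theorem C_k1 [Finite G]
    (h4 : Nat.card {χ : IrrCharacter G // ¬ 2 ∣ charDegree (χ : G → ℂ)} % 8 = 4)
    (h8 : 8 ∣ Nat.card G) :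
    Odd (∑ χ : IrrCharacter G, if charDegree (χ : G → ℂ) % 4 = 2 then 1 else 0) := by
  have h := A_card_mod (G := G)
  unfold Nat.ModEq at h
  rw [Nat.odd_iff]
  omega

end CF.Fo
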