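import Mathlib

namespace CF.Fo

theorem B_prime (s : ℂ →+* ℂ) (p : ℕ) (hp : p.Prime) (hp2 : p ≠ 2)
    (hs : ∀ z : ℂ, z ^ p = 1 → s z = z) :
    ∃ r : ℂ, s r = r ∧ r ^ 2 = ((ZMod.χ₄ (p : ZMod 4) : ℤ) : ℂ) * (p : ℂ) := by
  haveI := Fact.mk hp
  have hF : ringChar (ZMod p) ≠ 2 := by rw [ZMod.ringChar_zmod_n]; exact hp2
  have h1 : (quadraticChar (ZMod p)).ringHomComp (Int.castRingHom ℂ) ≠ 1 :=
    (MulChar.ringHomComp_ne_one_iff (RingHom.injective_int _)).2 (quadraticChar_ne_one hF)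
  have h2 := (quadraticChar_isQuadratic (ZMod p)).comp (Int.castRingHom ℂ)
  have h3 := gaussSum_sq h1 h2 (ZMod.isPrimitive_stdAddChar p)
  refine ⟨_, ?_, h3.trans ?_⟩
  · unfold gaussSum
    rw [map_sum]
    refine Finset.sum_congr rfl fun a _ => ?_
    rw [map_mul, hs (ZMod.stdAddChar a)]
    · simp [MulChar.ringHomComp_apply]
    · rw [← AddChar.map_nsmul_eq_pow, nsmul_eq_mul, ZMod.natCast_self, zero_mul,
        AddChar.map_zero_eq_one]
  · rw [MulChar.ringHomComp_apply, quadraticChar_neg_one hF, ZMod.card]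
    simp

theorem B_odd (s : ℂ →+* ℂ) {N : ℕ}
    (hs : ∀ (m : ℕ) (z : ℂ), Odd m → m ∣ N → z ^ m = 1 → s z = z) (n : ℕ) :
    Odd n → n ∣ N → ∃ r : ℂ, s r = r ∧ r ^ 2 = ((ZMod.χ₄ (n : ZMod 4) : ℤ) : ℂ) * (n : ℂ) := by
  induction n using Nat.recOnMul with
  | zero => intro h; exact absurd h (by decide)
  | one => intro _ _; exact ⟨1, by simp, by simp⟩
  | prime p hp =>
    intro ho hd
    refine B_prime s p hp ?_ fun z hz => hs p z ho hd hz
    rintro rfl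
    exact absurd ho (by decide)
  | mul a b iha ihb =>
    intro ho hd
    obtain ⟨ha, hb⟩ := Nat.odd_mul.1 ho
    obtain ⟨r, hr, hr2⟩ := iha ha ((dvd_mul_right a b).trans hd)
    obtain ⟨t, ht, ht2⟩ := ihb hb ((dvd_mul_left b a).trans hd)
    refine ⟨r * t, by rw [map_mul, hr, ht], ?_⟩
    rw [mul_pow, hr2, ht2, Nat.cast_mul, map_mul]
    push_cast
    ring

theorem B_root (s : ℂ →+* ℂ) {N : ℕ} (hN : N ≠ 0) (hs : ∀ (m : ℕ) (z : ℂ), Odd m → m ∣ N → z ^ m = 1 → s z = z) {d : ℕ} (hd : d ∣ N) : ∃ r : ℂ, s r = r ∧ r ^ 2 = (-1) ^ (d * (d - 1) / 2) * (-1) ^ (if d % 4 = 2 then 1 else 0) * (d : ℂ) ^ (d ^ 2) := by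
  rcases Nat.even_or_odd' d with ⟨k, hk | hk⟩
  · refine ⟨(d : ℂ) ^ (2 * k ^ 2), by simp, ?_⟩
    have hk0 : k ≠ 0 := by
      rintro rfl
      exact hN (Nat.eq_zero_of_zero_dvd (by simpa [hk] using hd))
    have h1 : d * (d - 1) / 2 = k * (d - 1) := by
      rw [hk, mul_assoc, Nat.mul_div_cancel_left _ two_pos]
    have h2 : d ^ 2 = 2 * k ^ 2 * 2 := by rw [hk]; ring
    have h3 : Odd (d - 1) := ⟨k - 1, by omega⟩
    rw [h1, h2, ← pow_mul, ← pow_add, Even.neg_one_pow, one_mul]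
    split_ifs with h
    · exact (Odd.mul ⟨k / 2, by omega⟩ h3).add_one
    · exact (Even.mul_right ⟨k / 2, by omega⟩ _).add (by simp)
  · have ho : Odd d := ⟨k, hk⟩
    obtain ⟨r, hr, hr2⟩ := B_odd s hs d ho hd
    refine ⟨r * (d : ℂ) ^ (2 * k ^ 2 + 2 * k), by simp [hr], ?_⟩
    have h1 : d * (d - 1) / 2 = d * k := by
      have : d - 1 = 2 * k := by omega
      rw [this, mul_left_comm, Nat.mul_div_cancel_left _ two_pos]
    have h2 : d ^ 2 = 1 + (2 * k ^ 2 + 2 * k) * 2 := by rw [hk]; ring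
    have h3 : d / 2 = k := by omega
    rw [mul_pow, hr2, ZMod.χ₄_eq_neg_one_pow (by omega), h1, h2, h3, if_neg (by omega),
      pow_mul (-1 : ℂ) d k, ho.neg_one_pow, pow_add, pow_mul]
    push_cast
    ring

end CF.Fo
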